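import Groth.Agent.L02.Gonflement.Tower
import Mathlib.SetTheory.Cardinal.Order
import Mathlib.RingTheory.LocalRing.ResidueField.Basic
import Mathlib.RingTheory.LocalRing.ResidueField.Ideal
import Mathlib.RingTheory.Localization.Integral
import Mathlib.LinearAlgebra.FreeModule.Basic
import Mathlib.LinearAlgebra.Dimension.Finite

/-!
Extensions of rings realising a given extension of a residue field: an arbitrary extension for a
local ring, a finite one for a prime of any ring.
-/

universe u v

open Polynomial IsLocalRing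

namespace Groth.L02.Gonflement

/-- a flat local extension with residue field `K` -/
theorem exists_flat_local_extension {R K : Type u} [CommRing R] [IsLocalRing R] [Field K]
    (ρ : R →+* K) [IsLocalHom ρ] :
    ∃ (B : Type u) (_ : CommRing B) (_ : IsLocalRing B) (j : R →+* B) (σ : B →+* K),
      σ.comp j = ρ ∧ IsLocalHom j ∧ IsLocalHom σ ∧ j.Flat ∧
      (maximalIdeal R).map j = maximalIdeal B ∧ RingHom.ker σ = maximalIdeal B ∧
      Function.Surjective σ ∧ (IsNoetherianRing R → IsNoetherianRing B) := by
  classical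
  let _ : LinearOrder K := linearOrderOfSTO WellOrderingRel
  have : WellFoundedLT K := ⟨(inferInstance : IsWellFounded K WellOrderingRel).wf⟩
  have h := Tower.inv_univ ρ (id : K → K)
  refine ⟨_, inferInstance, inferInstance, Tower.ρS ρ id Set.univ, Tower.evS ρ id Set.univ,
    Tower.evS_ρS ρ id _, ⟨fun r hr => ?_⟩, inferInstance, h.flatBase, h.maximal,
    ker_eq_maximalIdeal, fun k => ⟨Tower.xS ρ id Set.univ ⟨k, trivial⟩, Tower.evS_xS ρ id _ _⟩,
    h.noetherian⟩
  have h1 := hr.map (Tower.evS ρ id Set.univ)
  rw [← RingHom.comp_apply, Tower.evS_ρS] at h1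
  exact IsLocalHom.map_nonunit r h1

/-- a finite free extension containing fractions for given algebraic elements -/
theorem exists_finite_free {R : Type u} [CommRing R] {L : Type v} [Field L] (ρ : R →+* L)
    (s : Finset L) (h : ∀ a ∈ s, ∃ Q : R[X], Q.map ρ ≠ 0 ∧ Q.eval₂ ρ a = 0) :
    ∃ (S : Type u) (_ : CommRing S) (_ : Algebra R S) (σ : S →+* L),
      Module.Finite R S ∧ Module.Free R S ∧ σ.comp (algebraMap R S) = ρ ∧
      RingHom.ker σ = (RingHom.ker ρ).map (algebraMap R S) ∧
      ∀ a ∈ s, ∃ x y : S, σ y ≠ 0 ∧ σ x = σ y * a := by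
  classical
  induction s using Finset.induction_on with
  | empty =>
    exact ⟨R, inferInstance, Algebra.id R, ρ, inferInstance, inferInstance, RingHom.comp_id ρ,
      (Ideal.map_id _).symm, by simp⟩
  | @insert a s _ ih =>
    obtain ⟨S, _, _, σ, _, _, hσ, hker, hs⟩ := ih fun b hb => h b (Finset.mem_insert_of_mem hb)
    obtain ⟨Q, hQ, hQa⟩ := h a (Finset.mem_insert_self a s)
    obtain ⟨c, P, hc, hP, hPa, hmin⟩ := exists_monic_minDeg σ a
      ⟨Q.map (algebraMap R S), by rwa [Polynomial.map_map, hσ], by rwa [Polynomial.eval₂_map, hσ]⟩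
    have := hP.finite_adjoinRoot
    have := hP.free_adjoinRoot
    have hcomp : algebraMap R (AdjoinRoot P) = (AdjoinRoot.of P).comp (algebraMap R S) := by
      rw [IsScalarTower.algebraMap_eq R S (AdjoinRoot P), AdjoinRoot.algebraMap_eq]
    refine ⟨AdjoinRoot P, inferInstance, inferInstance, AdjoinRoot.lift σ (σ c * a) hPa,
      Module.Finite.trans S _, Module.Free.trans (S := S), ?_, ?_, fun b hb => ?_⟩
    · rw [hcomp, ← RingHom.comp_assoc, AdjoinRoot.lift_comp_of, hσ]
    · rw [ker_lift hP hPa hmin, hker, hcomp, Ideal.map_map]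
    · rcases Finset.mem_insert.mp hb with rfl | hb
      · exact ⟨AdjoinRoot.root P, AdjoinRoot.of P c, by rwa [AdjoinRoot.lift_of],
          by rw [AdjoinRoot.lift_root, AdjoinRoot.lift_of]⟩
      · obtain ⟨x, y, hy, hxy⟩ := hs b hb
        exact ⟨AdjoinRoot.of P x, AdjoinRoot.of P y, by rwa [AdjoinRoot.lift_of],
          by rwa [AdjoinRoot.lift_of, AdjoinRoot.lift_of]⟩

/-- elements of a finite extension of a residue field satisfy a relation from the ring -/
theorem exists_relation {R : Type u} [CommRing R] (p : Ideal R) [p.IsPrime] {L : Type v} [Field L]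
    [Algebra p.ResidueField L] [FiniteDimensional p.ResidueField L] (a : L) :
    ∃ Q : R[X], Q.map ((algebraMap p.ResidueField L).comp (algebraMap R p.ResidueField)) ≠ 0 ∧
      Q.eval₂ ((algebraMap p.ResidueField L).comp (algebraMap R p.ResidueField)) a = 0 := by
  let _ : Algebra (R ⧸ p) L :=
    ((algebraMap p.ResidueField L).comp (algebraMap (R ⧸ p) p.ResidueField)).toAlgebra
  have : IsScalarTower (R ⧸ p) p.ResidueField L := .of_algebraMap_eq' rfl
  obtain ⟨Q₀, hQ₀, ha⟩ := (IsFractionRing.isAlgebraic_iff (R ⧸ p) p.ResidueField L).mpr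
    (Algebra.IsAlgebraic.isAlgebraic a)
  obtain ⟨Q, rfl⟩ := Polynomial.map_surjective _ Ideal.Quotient.mk_surjective Q₀
  have hc : (algebraMap p.ResidueField L).comp (algebraMap R p.ResidueField) =
      (algebraMap (R ⧸ p) L).comp (Ideal.Quotient.mk p) := rfl
  refine ⟨Q, ?_, ?_⟩
  · rw [hc, ← Polynomial.map_map]
    exact (Polynomial.map_ne_zero_iff (f := algebraMap (R ⧸ p) L) fun x y h =>
      p.injective_algebraMap_quotient_residueField ((algebraMap p.ResidueField L).injective h)).mpr hQ₀
  · rw [hc, ← Polynomial.eval₂_map]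
    exact ha

/-- a finite free extension with prescribed finite extension of the residue field at a prime -/
theorem exists_finite_free_residueField {R : Type u} [CommRing R] (p : Ideal R) [p.IsPrime]
    (L : Type v) [Field L] [Algebra p.ResidueField L] [FiniteDimensional p.ResidueField L] :
    ∃ (S : Type u) (_ : CommRing S) (_ : Algebra R S) (_ : Module.Finite R S) (_ : Module.Free R S)
      (_ : (p.map (algebraMap R S)).IsPrime)
      (e : (p.map (algebraMap R S)).ResidueField ≃+* L),
      ∀ r : R, e (algebraMap R (p.map (algebraMap R S)).ResidueField r) =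
        algebraMap p.ResidueField L (algebraMap R p.ResidueField r) := by
  classical
  let b := Module.finBasis p.ResidueField L
  obtain ⟨S, _, _, σ, hfin, hfree, hσ, hker, hs⟩ := exists_finite_free
    ((algebraMap p.ResidueField L).comp (algebraMap R p.ResidueField))
    (Finset.univ.image fun i => b i) fun a _ => exists_relation p a
  have hρ : RingHom.ker ((algebraMap p.ResidueField L).comp (algebraMap R p.ResidueField)) = p := by
    rw [← RingHom.comap_ker, (RingHom.injective_iff_ker_eq_bot _).mp (algebraMap p.ResidueField L).injective,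
      ← RingHom.ker_eq_comap_bot, Ideal.ker_algebraMap_residueField]
  rw [hρ] at hker
  have hq : (p.map (algebraMap R S)).IsPrime := hker ▸ RingHom.ker_isPrime σ
  have hu : (p.map (algebraMap R S)).primeCompl ≤ (IsUnit.submonoid L).comap σ := fun x hx =>
    IsUnit.mk0 _ fun h0 => hx (by rw [← hker]; exact h0)
  let f := Ideal.ResidueField.lift (p.map (algebraMap R S)) σ hker.ge hu
  have hf : ∀ x, f (algebraMap S _ x) = σ x := fun x => Ideal.ResidueField.lift_algebraMap _ _ _ _ x
  have hcomap : p = (p.map (algebraMap R S)).comap (algebraMap R S) := by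
    rw [← hker, RingHom.comap_ker, hσ, hρ]
  have hbase : ∀ k, algebraMap p.ResidueField L k ∈ f.fieldRange := fun k => by
    refine ⟨Ideal.ResidueField.map p _ _ hcomap k, ?_⟩
    refine RingHom.congr_fun (Ideal.ResidueField.ringHom_ext (f := f.comp _) (RingHom.ext fun r => ?_)) k
    rw [RingHom.comp_apply, RingHom.comp_apply, Ideal.ResidueField.map_algebraMap, hf, ← RingHom.comp_apply, hσ]
  have hb : ∀ i, b i ∈ f.fieldRange := fun i => by
    obtain ⟨x, y, hy, hxy⟩ := hs (b i) (Finset.mem_image_of_mem _ (Finset.mem_univ i))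
    refine ⟨algebraMap S _ x / algebraMap S _ y, ?_⟩
    rw [map_div₀, hf, hf, hxy, mul_div_cancel_left₀ _ hy]
  have hsurj : Function.Surjective f := fun a => by
    refine RingHom.mem_fieldRange.mp ?_
    rw [← b.sum_repr a]
    exact Subfield.sum_mem _ fun i _ => by rw [Algebra.smul_def]; exact mul_mem (hbase _) (hb i)
  refine ⟨S, _, _, hfin, hfree, hq, RingEquiv.ofBijective f ⟨f.injective, hsurj⟩, fun r => ?_⟩
  show f _ = _
  rw [IsScalarTower.algebraMap_apply R S, hf, ← RingHom.comp_apply, hσ]
  rfl

/-- a finite free local extension with prescribed finite extension of the residue field -/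
theorem exists_finite_free_local {R : Type u} [CommRing R] [IsLocalRing R] (L : Type v) [Field L]
    [Algebra (ResidueField R) L] [Module.Finite (ResidueField R) L] :
    ∃ (S : Type u) (_ : CommRing S) (_ : Algebra R S) (_ : IsLocalRing S) (σ : S →+* L),
      Module.Finite R S ∧ Module.Free R S ∧ IsLocalHom (algebraMap R S) ∧
      σ.comp (algebraMap R S) = (algebraMap (ResidueField R) L).comp (residue R) ∧
      RingHom.ker σ = (maximalIdeal R).map (algebraMap R S) ∧ Function.Surjective σ := by
  classical
  let b := Module.finBasis (ResidueField R) L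
  obtain ⟨S, _, _, σ, hfin, hfree, hσ, hker, hs⟩ := exists_finite_free
    ((algebraMap (ResidueField R) L).comp (residue R)) (Finset.univ.image fun i => b i) fun a _ => by
      have hint : IsIntegral (ResidueField R) a := Algebra.IsIntegral.isIntegral a
      obtain ⟨Q, hQ⟩ := Polynomial.map_surjective (residue R) residue_surjective (minpoly (ResidueField R) a)
      refine ⟨Q, ?_, ?_⟩
      · rw [← Polynomial.map_map, hQ]
        exact (Polynomial.map_ne_zero_iff (RingHom.injective _)).mpr (minpoly.ne_zero hint)
      · rw [← Polynomial.eval₂_map, hQ]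
        exact minpoly.aeval _ a
  rw [← RingHom.comap_ker, (RingHom.injective_iff_ker_eq_bot _).mp (algebraMap (ResidueField R) L).injective,
    ← RingHom.ker_eq_comap_bot, ker_residue] at hker
  have hprime : ((maximalIdeal R).map (algebraMap R S)).IsPrime := hker ▸ RingHom.ker_isPrime σ
  have hmax : ((maximalIdeal R).map (algebraMap R S)).IsMaximal := by
    refine Ideal.isMaximal_of_isIntegral_of_isMaximal_comap (R := R) _ ?_
    exact ((maximalIdeal.isMaximal R).eq_of_le (Ideal.comap_ne_top _ hprime.ne_top) Ideal.le_comap_map) ▸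
      maximalIdeal.isMaximal R
  have hloc : IsLocalRing S := IsLocalRing.of_unique_max_ideal ⟨_, hmax, fun M hM => by
    refine (hmax.eq_of_le hM.ne_top ?_).symm
    rw [Ideal.map_le_iff_le_comap,
      IsLocalRing.eq_maximalIdeal (Ideal.isMaximal_comap_of_isIntegral_of_isMaximal (R := R) M)]⟩
  have hm : (maximalIdeal R).map (algebraMap R S) = maximalIdeal S := IsLocalRing.eq_maximalIdeal hmax
  have hlocal : IsLocalHom (algebraMap R S) :=
    ((IsLocalRing.local_hom_TFAE (algebraMap R S)).out 0 2).mpr hm.le
  refine ⟨S, _, _, hloc, σ, hfin, hfree, hlocal, hσ, hker, fun a => ?_⟩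
  refine RingHom.mem_range.mp ?_
  rw [← b.sum_repr a]
  refine Subring.sum_mem _ fun i _ => ?_
  rw [Algebra.smul_def]
  refine mul_mem ?_ ?_
  · obtain ⟨r, hr⟩ := residue_surjective (b.repr a i)
    exact ⟨algebraMap R S r, by rw [← RingHom.comp_apply, hσ, RingHom.comp_apply, hr]⟩
  · obtain ⟨x, y, hy, hxy⟩ := hs (b i) (Finset.mem_image_of_mem _ (Finset.mem_univ i))
    have hu : IsUnit y := notMem_maximalIdeal.mp fun h => hy (by rwa [← RingHom.mem_ker, hker, hm])
    exact ⟨x * ↑hu.unit⁻¹, mul_left_cancel₀ hy (by
      rw [← hxy, ← map_mul, mul_left_comm, hu.mul_val_inv, mul_one])⟩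

end Groth.L02.Gonflement
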