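import Groth.Agent.L02.Gonflement.Noeth
import Mathlib.Algebra.Colimit.Ring
import Mathlib.RingTheory.Flat.EquationalCriterion
import Mathlib.RingTheory.Flat.FaithfullyFlat.Algebra
import Mathlib.RingTheory.Filtration
import Mathlib.RingTheory.RingHom.Flat
import Mathlib.Tactic.LinearCombination
import Mathlib.RingTheory.LocalRing.RingHom.Basic

/-!
Directed colimits of local rings along flat local maps.
-/

universe u v

namespace Groth.L02.Gonflement

variable {ι : Type v} [Preorder ι] [Nonempty ι] [IsDirected ι (· ≤ ·)]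
  (G : ι → Type u) [∀ i, CommRing (G i)]
  (f : ∀ i j, i ≤ j → G i →+* G j) [DirectedSystem G fun i j h => f i j h]

local notation "L" => Ring.DirectLimit G fun i j h => f i j h
local notation "φ" => Ring.DirectLimit.of G (fun i j h => f i j h)

omit [IsDirected ι (· ≤ ·)] [Nonempty ι] [DirectedSystem G fun i j h => f i j h] in
lemma of_map (i j : ι) (h : i ≤ j) (x : G i) : φ j (f i j h x) = φ i x :=
  Ring.DirectLimit.of_f (f := fun i j h => f i j h) h x

omit [Nonempty ι] in
lemma exists_map_eq {i : ι} {x y : G i} (h : φ i x = φ i y) :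
    ∃ (j : ι) (hij : i ≤ j), f i j hij x = f i j hij y := by
  obtain ⟨j, hij, hj⟩ := Ring.DirectLimit.of.zero_exact (f' := f) (x := x - y) (by rw [map_sub]; exact sub_eq_zero.mpr h)
  exact ⟨j, hij, sub_eq_zero.mp (by rw [← map_sub, hj])⟩

omit [DirectedSystem G fun i j h => f i j h] in
/-- finitely many elements of the colimit come from one stage -/
lemma exists_stage {κ : Type*} [Finite κ] (x : κ → L) (i0 : ι) :
    ∃ (i : ι) (_ : i0 ≤ i) (y : κ → G i), ∀ k, φ i (y k) = x k := by
  classical
  choose a y hy using fun k => Ring.DirectLimit.exists_of (x k)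
  obtain ⟨i, hi⟩ := Finite.exists_le (fun o : Option κ => o.elim i0 a)
  exact ⟨i, hi none, fun k => f (a k) i (hi (some k)) (y k), fun k => (of_map G f (a k) i (hi (some k)) (y k)).trans (hy k)⟩

/-- The stages map flatly to the colimit when the transition maps are flat. -/
theorem flat_of (hflat : ∀ i j (h : i ≤ j), (f i j h).Flat) (i : ι) : (φ i).Flat := by
  algebraize [φ i]
  show Module.Flat (G i) L
  rw [Module.Flat.iff_forall_isTrivialRelation]
  intro l r x hx
  obtain ⟨j, hij, y, hy⟩ := exists_stage G f x i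
  have hz : φ j (∑ s, f i j hij (r s) * y s) = φ j 0 := by
    rw [map_sum, map_zero, ← hx]
    exact Finset.sum_congr rfl fun s _ => by rw [map_mul, of_map, hy, Algebra.smul_def]; rfl
  obtain ⟨k, hjk, hk⟩ := exists_map_eq G f hz
  let _ : Algebra (G i) (G k) := (f i k (hij.trans hjk)).toAlgebra
  have : Module.Flat (G i) (G k) := hflat i k (hij.trans hjk)
  have hrel : ∑ s, r s • f j k hjk (y s) = 0 := by
    rw [map_zero, map_sum] at hk
    refine Eq.trans (Finset.sum_congr rfl fun s _ => ?_) hk
    rw [map_mul, Algebra.smul_def]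
    congr 1
    exact (DirectedSystem.map_map (f := fun i j h => f i j h) hij hjk (r s)).symm
  obtain ⟨m, a, w, hw, ha⟩ := Module.Flat.isTrivialRelation_of_sum_smul_eq_zero hrel
  refine ⟨m, a, fun t => φ k (w t), fun s => ?_, ha⟩
  rw [← hy s, ← of_map G f j k hjk, show f j k hjk (y s) = _ from hw s, map_sum]
  refine Finset.sum_congr rfl fun t _ => ?_
  rw [Algebra.smul_def, Algebra.smul_def, map_mul]
  exact congrArg (· * _) (of_map G f i k (hij.trans hjk) _)

section Local

variable [∀ i, IsLocalRing (G i)] (hloc : ∀ i j (h : i ≤ j), IsLocalHom (f i j h))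
include hloc

omit [∀ i, IsLocalRing (G i)] in
theorem isUnit_of {i : ι} {x : G i} (h : IsUnit (φ i x)) : IsUnit x := by
  obtain ⟨u, hu⟩ := h
  obtain ⟨j, hij, y, hy⟩ := exists_stage G f (fun _ : Unit => (↑u⁻¹ : L)) i
  have h1 : φ j (f i j hij x * y ()) = φ j 1 := by
    rw [map_mul, of_map, hy, map_one, ← hu, Units.mul_inv]
  obtain ⟨k, hjk, hk⟩ := exists_map_eq G f h1
  rw [map_mul, map_one] at hk
  have := IsUnit.of_mul_eq_one _ hk
  exact (hloc i j hij).map_nonunit x ((hloc j k hjk).map_nonunit _ this)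

omit [∀ i, IsLocalRing (G i)] in
theorem isLocalHom_of (i : ι) : IsLocalHom (φ i) := ⟨fun _ h => isUnit_of G f hloc h⟩

theorem isLocalRing : IsLocalRing L := by
  have : Nontrivial L := ⟨⟨0, 1, fun h => not_isUnit_zero (M₀ := G (Classical.arbitrary ι))
    (isUnit_of G f hloc (by rw [map_zero, h]; exact isUnit_one))⟩⟩
  refine IsLocalRing.of_isUnit_or_isUnit_one_sub_self fun a => ?_
  obtain ⟨i, x, rfl⟩ := Ring.DirectLimit.exists_of a
  rcases IsLocalRing.isUnit_or_isUnit_one_sub_self x with h | h
  · exact Or.inl (h.map (φ i))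
  · exact Or.inr (by simpa using h.map (φ i))

theorem maximalIdeal_eq [IsLocalRing L]
    (hmax : ∀ i j (h : i ≤ j), (IsLocalRing.maximalIdeal (G i)).map (f i j h) = IsLocalRing.maximalIdeal (G j))
    (i : ι) : (IsLocalRing.maximalIdeal (G i)).map (φ i) = IsLocalRing.maximalIdeal L := by
  apply le_antisymm
  · rw [Ideal.map_le_iff_le_comap]
    intro x hx
    exact fun hu => hx (isUnit_of G f hloc hu)
  · intro z hz
    obtain ⟨j, hij, y, hy⟩ := exists_stage G f (fun _ : Unit => z) i
    have hy' : y () ∈ IsLocalRing.maximalIdeal (G j) := fun hu => hz (hy () ▸ hu.map (φ j))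
    rw [← hmax i j hij] at hy'
    have := Ideal.mem_map_of_mem (φ j) hy'
    rw [Ideal.map_map, hy] at this
    rwa [show (φ j).comp (f i j hij) = φ i from RingHom.ext (of_map G f i j hij)] at this

/-- A colimit of Noetherian local rings along flat maps extending the maximal ideals is Noetherian. -/
theorem isNoetherianRing [∀ i, IsNoetherianRing (G i)]
    (hmax : ∀ i j (h : i ≤ j), (IsLocalRing.maximalIdeal (G i)).map (f i j h) = IsLocalRing.maximalIdeal (G j))
    (hflat : ∀ i j (h : i ≤ j), (f i j h).Flat) : IsNoetherianRing L := by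
  have := isLocalRing G f hloc
  let i0 : ι := Classical.arbitrary ι
  refine isNoetherianRing_of_closed ?_ fun I hI x hx => ?_
  · rw [← maximalIdeal_eq G f hloc hmax i0]
    exact Ideal.FG.map (IsNoetherian.noetherian (IsLocalRing.maximalIdeal (G i0))) _
  obtain ⟨n, g, hg⟩ := Submodule.fg_iff_exists_fin_generating_family.mp hI
  obtain ⟨i, -, y, hy⟩ := exists_stage G f (fun o : Option (Fin n) => o.elim x g) i0
  let J : Ideal (G i) := Ideal.span (Set.range fun s => y (some s))
  have hJ : J.map (φ i) = I := by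
    rw [Ideal.map_span, ← Set.range_comp, ← hg]
    congr 1
    ext a
    simp [hy]
  algebraize [φ i]
  have : Module.Flat (G i) L := flat_of G f hflat i
  have : IsLocalHom (algebraMap (G i) L) := isLocalHom_of G f hloc i
  have : Module.FaithfullyFlat (G i) L := Module.FaithfullyFlat.of_flat_of_isLocalHom
  have hmem : ∀ k : ℕ, y none ∈ J ⊔ IsLocalRing.maximalIdeal (G i) ^ k := fun k => by
    rw [← Ideal.comap_map_eq_self_of_faithfullyFlat (B := L) (J ⊔ IsLocalRing.maximalIdeal (G i) ^ k),
      Ideal.mem_comap, Ideal.map_sup, Ideal.map_pow]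
    show φ i (y none) ∈ J.map (φ i) ⊔ Ideal.map (φ i) _ ^ k
    rw [hJ, maximalIdeal_eq G f hloc hmax i, hy]
    exact hx k
  have hxJ : y none ∈ J := by
    by_cases hJtop : J = ⊤
    · rw [hJtop]; trivial
    have : Nontrivial (G i ⧸ J) := Ideal.Quotient.nontrivial_iff.mpr hJtop
    have := IsLocalRing.of_surjective' (Ideal.Quotient.mk J) Ideal.Quotient.mk_surjective
    have : IsNoetherianRing (G i ⧸ J) :=
      isNoetherianRing_of_surjective _ _ (Ideal.Quotient.mk J) Ideal.Quotient.mk_surjective
    rw [← Ideal.Quotient.eq_zero_iff_mem, ← Ideal.mem_bot,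
      ← Ideal.iInf_pow_eq_bot_of_isLocalRing (IsLocalRing.maximalIdeal (G i ⧸ J)) (IsLocalRing.maximalIdeal.isMaximal _).ne_top,
      Ideal.mem_iInf]
    intro k
    obtain ⟨a, ha, b, hb, hab⟩ := Submodule.mem_sup.mp (hmem k)
    rw [← hab, map_add, Ideal.Quotient.eq_zero_iff_mem.mpr ha, zero_add]
    have := Ideal.mem_map_of_mem (Ideal.Quotient.mk J) hb
    rw [Ideal.map_pow] at this
    refine Ideal.pow_right_mono ?_ k this
    exact IsLocalRing.le_maximalIdeal (fun h => by
      have h1 : IsLocalRing.maximalIdeal (G i) ⊔ J = ⊤ := by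
        rw [← Ideal.comap_top (f := Ideal.Quotient.mk J), ← h, Ideal.comap_map_of_surjective' _ Ideal.Quotient.mk_surjective,
          Ideal.mk_ker]
      rw [sup_eq_left.mpr (IsLocalRing.le_maximalIdeal hJtop)] at h1
      exact (IsLocalRing.maximalIdeal.isMaximal _).ne_top h1)
  have := Ideal.mem_map_of_mem (φ i) hxJ
  rwa [hJ, hy] at this

end Local

end Groth.L02.Gonflement
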