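import Mathlib.RingTheory.LocalRing.ResidueField.Basic
import Mathlib.RingTheory.MvPolynomial.Homogeneous
import Mathlib.RingTheory.Polynomial.Basic
import Mathlib.RingTheory.Finiteness.Finsupp
import Mathlib.RingTheory.PrincipalIdealDomain
import Mathlib.Tactic.Ring

/-!
A local ring with finitely generated maximal ideal in which finitely generated ideals are closed is
Noetherian.
-/

universe u

open MvPolynomial

namespace Groth.L02.Gonflement

variable {B : Type u} [CommRing B] [IsLocalRing B]

local notation "𝔪" => IsLocalRing.maximalIdeal B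

theorem eval_mem_pow {r : ℕ} (t : Fin r → B) (ht : ∀ i, t i ∈ 𝔪) {F : MvPolynomial (Fin r) B} {d : ℕ}
    (hF : F.IsHomogeneous d) : eval t F ∈ (𝔪) ^ d := by
  classical
  rw [eval_eq]
  refine Ideal.sum_mem _ fun s hs => Ideal.mul_mem_left _ _ ?_
  have hdeg : ∑ i ∈ s.support, s i = d := by
    have := hF (mem_support_iff.mp hs)
    rw [Finsupp.weight_apply, Finsupp.sum] at this
    simpa using this
  rw [← hdeg, ← Finset.prod_pow_eq_pow_sum]
  exact Ideal.prod_mem_prod fun i _ => Ideal.pow_mem_pow (ht i) _

theorem eval_mem_pow_succ {r : ℕ} (t : Fin r → B) (ht : ∀ i, t i ∈ 𝔪) {F : MvPolynomial (Fin r) B} {d : ℕ}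
    (hF : F.IsHomogeneous d) (hres : F.map (IsLocalRing.residue B) = 0) : eval t F ∈ (𝔪) ^ (d + 1) := by
  classical
  rw [eval_eq, pow_succ']
  refine Ideal.sum_mem _ fun s hs => ?_
  refine Ideal.mul_mem_mul ?_ ?_
  · have := congrArg (coeff s) hres
    rw [coeff_map, coeff_zero] at this
    exact Ideal.Quotient.eq_zero_iff_mem.mp this
  · have hdeg : ∑ i ∈ s.support, s i = d := by
      have := hF (mem_support_iff.mp hs)
      rw [Finsupp.weight_apply, Finsupp.sum] at this
      simpa using this
    rw [← hdeg, ← Finset.prod_pow_eq_pow_sum]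
    exact Ideal.prod_mem_prod fun i _ => Ideal.pow_mem_pow (ht i) _

theorem exists_homogeneous_eval {r : ℕ} (t : Fin r → B) (hspan : Ideal.span (Set.range t) = 𝔪) :
    ∀ (n : ℕ) (x : B), x ∈ (𝔪) ^ n → ∃ F : MvPolynomial (Fin r) B, F.IsHomogeneous n ∧ eval t F = x := by
  intro n
  induction n with
  | zero => exact fun x _ => ⟨C x, isHomogeneous_C _ _, eval_C x⟩
  | succ n ih =>
    intro x hx
    rw [pow_succ] at hx
    refine Submodule.mul_induction_on hx (fun a ha b hb => ?_) (fun a b ha hb => ?_)
    · rw [← hspan] at hb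
      obtain ⟨c, rfl⟩ := (Submodule.mem_span_range_iff_exists_fun B).mp hb
      obtain ⟨F, hF, rfl⟩ := ih a ha
      refine ⟨∑ i, C (c i) * (F * X i), IsHomogeneous.sum _ _ _ fun i _ => ?_, ?_⟩
      · simpa using (isHomogeneous_C _ (c i)).mul (hF.mul (isHomogeneous_X B i))
      · simp only [map_sum, map_mul, eval_C, eval_X, smul_eq_mul, Finset.mul_sum]
        exact Finset.sum_congr rfl fun i _ => by ring
    · obtain ⟨F, hF, rfl⟩ := ha
      obtain ⟨G, hG, rfl⟩ := hb
      exact ⟨F + G, hF.add hG, map_add _ _ _⟩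

theorem component_mul {σ R : Type*} [CommRing R] {G : MvPolynomial σ R} {d : ℕ} (hG : G.IsHomogeneous d)
    (H : MvPolynomial σ R) (n : ℕ) :
    homogeneousComponent n (H * G) = (if d ≤ n then homogeneousComponent (n - d) H else 0) * G := by
  classical
  ext s
  rw [coeff_homogeneousComponent]
  by_cases hs : s.degree = n
  · rw [if_pos hs, coeff_mul, coeff_mul]
    refine Finset.sum_congr rfl fun a ha => ?_
    by_cases hGa : coeff a.2 G = 0
    · rw [hGa, mul_zero, mul_zero]
    have h2 : a.2.degree = d := by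
      have := hG hGa
      rwa [Finsupp.degree_eq_weight_one]
    have h1 : a.1.degree + d = n := by
      rw [← h2, ← hs, ← Finset.HasAntidiagonal.mem_antidiagonal.mp ha, map_add]
    rw [if_pos (by omega), coeff_homogeneousComponent, if_pos (by omega)]
  · rw [if_neg hs]
    by_contra h
    have h' : ((if d ≤ n then homogeneousComponent (n - d) H else 0) * G).IsHomogeneous n := by
      split_ifs with hd
      · simpa [Nat.sub_add_cancel hd] using (homogeneousComponent_isHomogeneous (n - d) H).mul hG
      · simp [isHomogeneous_zero]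
    have := h' (Ne.symm h)
    rw [Finsupp.degree_eq_weight_one] at hs
    exact hs this

theorem map_component {σ R S : Type*} [CommRing R] [CommRing S] (φ : R →+* S) (n : ℕ) (p : MvPolynomial σ R) :
    (homogeneousComponent n p).map φ = homogeneousComponent n (p.map φ) := by
  ext s
  simp [coeff_homogeneousComponent, coeff_map, apply_ite φ]

/-- approximation of an arbitrary ideal by a finitely generated one -/
theorem exists_fg_le_sup_pow (hm : (𝔪).FG) (J : Ideal B) :
    ∃ J0 : Ideal B, J0.FG ∧ J0 ≤ J ∧ ∀ n : ℕ, J ≤ J0 ⊔ (𝔪) ^ n := by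
  classical
  obtain ⟨r, t, hspan⟩ := Submodule.fg_iff_exists_fin_generating_family.mp hm
  have ht : ∀ i, t i ∈ 𝔪 := fun i => hspan ▸ Submodule.subset_span ⟨i, rfl⟩
  let 𝓕 : Set (MvPolynomial (Fin r) (IsLocalRing.ResidueField B)) :=
    {g | ∃ (d : ℕ) (G : MvPolynomial (Fin r) B) (x : B),
      G.IsHomogeneous d ∧ x ∈ J ∧ eval t G - x ∈ (𝔪) ^ (d + 1) ∧ G.map (IsLocalRing.residue B) = g}
  have hN : IsNoetherianRing (MvPolynomial (Fin r) (IsLocalRing.ResidueField B)) := MvPolynomial.isNoetherianRing_fin
  obtain ⟨S, hS, hSspan⟩ := Submodule.fg_span_iff_fg_span_finset_subset 𝓕 |>.mp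
    (hN.noetherian (Ideal.span 𝓕))
  choose d G x hG hx hGx hGg using fun g : S => hS g.2
  refine ⟨Ideal.span (Set.range x), Submodule.fg_span (Set.finite_range x), ?_, ?_⟩
  · rw [Ideal.span_le]; rintro _ ⟨g, rfl⟩; exact hx g
  intro n
  induction n with
  | zero => simp
  | succ n ih =>
    intro a ha
    obtain ⟨y, hy, z, hz, rfl⟩ := Submodule.mem_sup.mp (ih ha)
    have hzJ : z ∈ J := by
      have := sub_mem ha ((Ideal.span_le.mpr (by rintro _ ⟨g, rfl⟩; exact hx g) : Ideal.span (Set.range x) ≤ J) hy)
      simpa using this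
    refine add_mem (Submodule.mem_sup_left hy) ?_
    obtain ⟨F, hF, hFz⟩ := exists_homogeneous_eval t hspan n z hz
    have hFmem : F.map (IsLocalRing.residue B) ∈ Ideal.span 𝓕 :=
      Ideal.subset_span ⟨n, F, z, hF, hzJ, by simp [hFz], rfl⟩
    obtain ⟨c, -, hc⟩ := Submodule.mem_span_finset.mp (hSspan.le hFmem)
    choose H hH using fun g : S => MvPolynomial.map_surjective (IsLocalRing.residue B) Ideal.Quotient.mk_surjective (c g)
    let H' : S → MvPolynomial (Fin r) B := fun g =>
      if d g ≤ n then homogeneousComponent (n - d g) (H g) else 0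
    let D := F - ∑ g, H' g * G g
    have hD : D.IsHomogeneous n := by
      refine hF.sub (IsHomogeneous.sum _ _ _ fun g _ => ?_)
      simp only [H']
      split_ifs with h
      · simpa [Nat.sub_add_cancel h] using (homogeneousComponent_isHomogeneous (n - d g) (H g)).mul (hG g)
      · simp [isHomogeneous_zero]
    have hD0 : D.map (IsLocalRing.residue B) = 0 := by
      have key : ∀ g : S, (H' g * G g).map (IsLocalRing.residue B) =
          homogeneousComponent n (c g * g.1) := fun g => by
        rw [← hH g, ← hGg g, ← map_mul, ← map_component, component_mul (hG g)]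
      simp only [D, map_sub, map_sum, key]
      rw [← map_sum, sub_eq_zero]
      have hc' : ∑ g : S, c g * g.1 = F.map (IsLocalRing.residue B) := by
        rw [Finset.sum_coe_sort S (fun g => c g * g)]
        simpa [smul_eq_mul] using hc
      rw [hc', ← map_component, homogeneousComponent_eq_self hF]
    have h1 := eval_mem_pow_succ t ht hD hD0
    have h2 : z - ∑ g, eval t (H' g) * x g ∈ (𝔪) ^ (n + 1) := by
      have h3 : ∑ g, eval t (H' g) * (eval t (G g) - x g) ∈ (𝔪) ^ (n + 1) := by
        refine Ideal.sum_mem _ fun g _ => ?_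
        simp only [H']
        split_ifs with h
        · have := Ideal.mul_mem_mul (eval_mem_pow t ht (homogeneousComponent_isHomogeneous (n - d g) (H g))) (hGx g)
          rwa [← pow_add, show n - d g + (d g + 1) = n + 1 by omega] at this
        · simp
      have := add_mem h1 h3
      simp only [D, map_sub, map_sum, map_mul, hFz, mul_sub, Finset.sum_sub_distrib] at this
      simpa using this
    rw [← add_sub_cancel (∑ g, eval t (H' g) * x g) z]
    exact add_mem (Submodule.mem_sup_left (Ideal.sum_mem _ fun g _ => Ideal.mul_mem_left _ _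
      (Ideal.subset_span ⟨g, rfl⟩))) (Submodule.mem_sup_right h2)

/-- A local ring with finitely generated maximal ideal whose finitely generated ideals are closed is
Noetherian. -/
theorem isNoetherianRing_of_closed (hm : (𝔪).FG)
    (hclosed : ∀ I : Ideal B, I.FG → ∀ x, (∀ n : ℕ, x ∈ I ⊔ (𝔪) ^ n) → x ∈ I) : IsNoetherianRing B := by
  refine ⟨fun J => ?_⟩
  obtain ⟨J0, hfg, hle, happ⟩ := exists_fg_le_sup_pow hm J
  rw [show J = J0 from le_antisymm (fun a ha => hclosed J0 hfg a fun n => happ n ha) hle]
  exact hfg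

end Groth.L02.Gonflement
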