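import Mathlib.RingTheory.AdjoinRoot
import Mathlib.RingTheory.Ideal.GoingUp
import Mathlib.RingTheory.RingHom.Flat
import Mathlib.RingTheory.LocalRing.RingHom.Basic
import Mathlib.RingTheory.LocalRing.MaximalIdeal.Basic
import Mathlib.RingTheory.Localization.AtPrime.Basic
import Mathlib.RingTheory.Flat.Localization
import Mathlib.RingTheory.Polynomial.Basic
import Mathlib.Algebra.Polynomial.Div
import Mathlib.Tactic.Ring
import Mathlib.Tactic.LinearCombination

/-!
Adjoining one element to the residue field of a ring at a prime.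
-/

universe u v

open Polynomial

namespace Groth.L02.Gonflement

variable {S : Type u} [CommRing S] {L : Type v} [Field L] (σ : S →+* L)

/-- no polynomial of degree smaller than `P` with nonzero image kills `a` -/
def MinDeg (a : L) (P : S[X]) : Prop :=
  ∀ R : S[X], R.degree < P.degree → R.eval₂ σ a = 0 → R.map σ = 0

/-- a polynomial of least degree killing `a` with nonzero image -/
theorem exists_minDeg (a : L) (h : ∃ Q : S[X], Q.map σ ≠ 0 ∧ Q.eval₂ σ a = 0) :
    ∃ Q : S[X], σ Q.leadingCoeff ≠ 0 ∧ 0 < Q.natDegree ∧ Q.eval₂ σ a = 0 ∧ MinDeg σ a Q := by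
  classical
  have hex : ∃ n, ∃ Q : S[X], Q.natDegree = n ∧ Q.map σ ≠ 0 ∧ Q.eval₂ σ a = 0 := by
    obtain ⟨Q, hQ⟩ := h
    exact ⟨_, Q, rfl, hQ⟩
  obtain ⟨Q, hn, hQ, hQa⟩ := Nat.find_spec hex
  have hmin : ∀ R : S[X], R.natDegree < Q.natDegree → R.eval₂ σ a = 0 → R.map σ = 0 := by
    intro R hR hRa
    by_contra hne
    exact Nat.find_min hex (m := R.natDegree) (hn ▸ hR) ⟨R, rfl, hne, hRa⟩
  have h0 : 0 < Q.natDegree := by
    by_contra h0
    rw [eq_C_of_natDegree_eq_zero (Nat.eq_zero_of_not_pos h0)] at hQ hQa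
    rw [eval₂_C] at hQa
    rw [map_C, hQa, C_0] at hQ
    exact hQ rfl
  have hlead : σ Q.leadingCoeff ≠ 0 := by
    intro hl
    have hkill : (Q.eraseLead).eval₂ σ a = 0 := by
      have := congrArg (eval₂ σ a) Q.eraseLead_add_C_mul_X_pow
      rw [eval₂_add, hQa, eval₂_mul, eval₂_C, hl, zero_mul, add_zero] at this
      exact this
    have hmap : (Q.eraseLead).map σ = Q.map σ := by
      conv_rhs => rw [← Q.eraseLead_add_C_mul_X_pow]
      rw [Polynomial.map_add, Polynomial.map_mul, map_C, hl]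
      simp
    exact hQ (hmap ▸ hmin _ (lt_of_le_of_lt Q.eraseLead_natDegree_le (by omega)) hkill)
  refine ⟨Q, hlead, h0, hQa, fun R hR hRa => ?_⟩
  by_cases hR0 : R = 0
  · simp [hR0]
  exact hmin R (natDegree_lt_natDegree hR0 hR) hRa

/-- after scaling `a`, the polynomial may be chosen monic -/
theorem exists_monic_minDeg (a : L) (h : ∃ Q : S[X], Q.map σ ≠ 0 ∧ Q.eval₂ σ a = 0) :
    ∃ (c : S) (P : S[X]), σ c ≠ 0 ∧ P.Monic ∧ P.eval₂ σ (σ c * a) = 0 ∧ MinDeg σ (σ c * a) P := by
  classical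
  obtain ⟨Q, hlead, h0, hQa, hmin⟩ := exists_minDeg σ a h
  set c := Q.leadingCoeff with hc
  set d := Q.natDegree with hd
  let P : S[X] := X ^ d + ∑ i ∈ Finset.range d, C (Q.coeff i * c ^ (d - 1 - i)) * X ^ i
  have hsum : (∑ i ∈ Finset.range d, C (Q.coeff i * c ^ (d - 1 - i)) * X ^ i : S[X]).degree < d := by
    refine lt_of_le_of_lt (degree_sum_le _ _) ?_
    refine (Finset.sup_lt_iff (WithBot.bot_lt_coe d)).mpr ?_
    intro i hi
    exact lt_of_le_of_lt (degree_C_mul_X_pow_le _ _) (WithBot.coe_lt_coe.mpr (Finset.mem_range.mp hi))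
  have hmonic : P.Monic := monic_X_pow_add hsum
  have hdeg : P.degree = d := by
    have := σ.domain_nontrivial
    simp only [P]
    rw [degree_add_eq_left_of_degree_lt (by rw [degree_X_pow]; exact hsum), degree_X_pow]
  refine ⟨c, P, hlead, hmonic, ?_, fun R hR hRa => ?_⟩
  · have h1 := hQa
    rw [eval₂_eq_sum_range, ← hd, Finset.sum_range_succ] at h1
    simp only [P, eval₂_add, eval₂_finsetSum, eval₂_mul, eval₂_C, eval₂_pow, eval₂_X, map_mul, map_pow]
    have key : (σ c * a) ^ d = σ c ^ (d - 1) * (σ (Q.coeff d) * a ^ d) := by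
      rw [show Q.coeff d = c from rfl, mul_pow, ← mul_assoc, ← pow_succ, show d - 1 + 1 = d by omega]
    have key2 : ∀ i ∈ Finset.range d, σ (Q.coeff i) * σ c ^ (d - 1 - i) * (σ c * a) ^ i =
        σ c ^ (d - 1) * (σ (Q.coeff i) * a ^ i) := fun i hi => by
      have : i + (d - 1 - i) = d - 1 := by have := Finset.mem_range.mp hi; omega
      conv_rhs => rw [← this, pow_add]
      ring
    rw [Finset.sum_congr rfl key2, key, ← Finset.mul_sum, ← mul_add, add_comm (σ (Q.coeff d) * a ^ d), h1, mul_zero]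
  · have h1 : (R.comp (C c * X)).eval₂ σ a = 0 := by
      rw [eval₂_comp, eval₂_mul, eval₂_C, eval₂_X, hRa]
    have h2 : (R.comp (C c * X)).degree < Q.degree := by
      rw [degree_eq_natDegree (show Q ≠ 0 from fun h => hlead (by simp [hc, h]))]
      rw [hdeg] at hR
      refine lt_of_le_of_lt ?_ hR
      by_cases hR0 : R = 0
      · simp [hR0]
      rw [degree_eq_natDegree hR0]
      refine degree_le_natDegree.trans ?_
      exact_mod_cast natDegree_comp_le.trans (by
        calc R.natDegree * (C c * X).natDegree ≤ R.natDegree * 1 :=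
              Nat.mul_le_mul_left _ ((natDegree_C_mul_le _ _).trans natDegree_X_le)
          _ = R.natDegree := mul_one _)
    have h3 := hmin _ h2 h1
    ext i
    have h4 := congrArg (coeff · i) h3
    simp only [coeff_map, coeff_zero, comp_C_mul_X_coeff, map_mul, map_pow] at h4
    rw [coeff_map, coeff_zero]
    exact (mul_eq_zero.mp h4).resolve_right (pow_ne_zero _ hlead)

variable {σ} {a : L} {P : S[X]} (hP : P.Monic) (hPa : P.eval₂ σ a = 0) (hmin : MinDeg σ a P)
include hP hPa hmin

/-- the kernel of evaluation on the adjunction is generated by the kernel below -/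
theorem ker_lift : RingHom.ker (AdjoinRoot.lift σ a hPa) = (RingHom.ker σ).map (AdjoinRoot.of P) := by
  apply le_antisymm
  · intro z hz
    obtain ⟨Q, rfl⟩ := AdjoinRoot.mk_surjective z
    rw [RingHom.mem_ker, AdjoinRoot.lift_mk] at hz
    have hR : (Q %ₘ P).eval₂ σ a = 0 := by
      conv_lhs at hz => rw [← modByMonic_add_div Q P, eval₂_add, eval₂_mul, hPa, zero_mul, add_zero]
      exact hz
    have := σ.domain_nontrivial
    have h0 := hmin _ (degree_modByMonic_lt Q hP) hR
    have hmem : AdjoinRoot.mk P Q = AdjoinRoot.mk P (Q %ₘ P) := by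
      conv_lhs => rw [← modByMonic_add_div Q P]
      rw [map_add, map_mul, AdjoinRoot.mk_self, zero_mul, add_zero]
    rw [hmem, ← sum_monomial_eq (Q %ₘ P), sum_def, map_sum]
    refine Ideal.sum_mem _ fun i _ => ?_
    rw [← C_mul_X_pow_eq_monomial, map_mul, AdjoinRoot.mk_C]
    refine Ideal.mul_mem_right _ _ (Ideal.mem_map_of_mem _ ?_)
    rw [RingHom.mem_ker, ← coeff_map, h0, coeff_zero]
  · rw [Ideal.map_le_iff_le_comap]
    intro x hx
    rw [Ideal.mem_comap, RingHom.mem_ker, AdjoinRoot.lift_of]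
    exact hx

theorem isPrime_map_ker : ((RingHom.ker σ).map (AdjoinRoot.of P)).IsPrime := by
  rw [← ker_lift hP hPa hmin]
  exact RingHom.ker_isPrime _

variable [IsLocalRing S] [IsLocalHom σ]

omit hP hPa hmin in
theorem ker_eq_maximalIdeal : RingHom.ker σ = IsLocalRing.maximalIdeal S := by
  refine le_antisymm (IsLocalRing.le_maximalIdeal (RingHom.ker_ne_top σ)) fun x hx => ?_
  by_contra h
  exact hx (IsLocalHom.map_nonunit x (IsUnit.mk0 _ h))

theorem isMaximal_map : ((IsLocalRing.maximalIdeal S).map (AdjoinRoot.of P)).IsMaximal := by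
  have hprime : ((IsLocalRing.maximalIdeal S).map (AdjoinRoot.of P)).IsPrime := by
    rw [← ker_eq_maximalIdeal (σ := σ)]; exact isPrime_map_ker hP hPa hmin
  have := hP.finite_adjoinRoot
  refine Ideal.isMaximal_of_isIntegral_of_isMaximal_comap (R := S) _ ?_
  rw [AdjoinRoot.algebraMap_eq]
  have hle : IsLocalRing.maximalIdeal S ≤ _ := Ideal.le_comap_map (f := AdjoinRoot.of P)
  exact ((IsLocalRing.maximalIdeal.isMaximal S).eq_of_le
    (Ideal.comap_ne_top _ hprime.ne_top) hle) ▸ IsLocalRing.maximalIdeal.isMaximal S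

theorem isLocalRing_adjoin : IsLocalRing (AdjoinRoot P) := by
  have := hP.finite_adjoinRoot
  refine IsLocalRing.of_unique_max_ideal ⟨_, isMaximal_map hP hPa hmin, fun M hM => ?_⟩
  refine ((isMaximal_map hP hPa hmin).eq_of_le hM.ne_top ?_).symm
  rw [Ideal.map_le_iff_le_comap, ← AdjoinRoot.algebraMap_eq,
    IsLocalRing.eq_maximalIdeal (Ideal.isMaximal_comap_of_isIntegral_of_isMaximal (R := S) M)]

theorem maximalIdeal_adjoin [IsLocalRing (AdjoinRoot P)] :
    (IsLocalRing.maximalIdeal S).map (AdjoinRoot.of P) = IsLocalRing.maximalIdeal (AdjoinRoot P) :=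
  IsLocalRing.eq_maximalIdeal (isMaximal_map hP hPa hmin)

omit hPa hmin [IsLocalRing S] in
theorem flat_adjoin : (AdjoinRoot.of P).Flat := by
  have := hP.free_adjoinRoot
  rw [← AdjoinRoot.algebraMap_eq, RingHom.flat_algebraMap_iff]
  infer_instance

theorem isLocalHom_lift [IsLocalRing (AdjoinRoot P)] : IsLocalHom (AdjoinRoot.lift σ a hPa) := by
  refine ⟨fun z hz => ?_⟩
  by_contra h
  have h1 : z ∈ IsLocalRing.maximalIdeal _ := h
  rw [← maximalIdeal_adjoin hP hPa hmin, ← ker_eq_maximalIdeal (σ := σ), ← ker_lift hP hPa hmin,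
    RingHom.mem_ker] at h1
  exact hz.ne_zero h1

end Groth.L02.Gonflement
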