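import Groth.Agent.L02.Gonflement.Step
import Groth.Agent.L02.Gonflement.Colimit
import Mathlib.Order.Interval.Set.Basic
import Mathlib.Algebra.MvPolynomial.Rename
import Mathlib.Algebra.MvPolynomial.CommRing
import Mathlib.RingTheory.Ideal.Quotient.Operations

/-!
A tower of flat local extensions of a local ring realising a well-ordered family of elements of an
extension of the residue field.
-/

universe u

open MvPolynomial

namespace Groth.L02.Gonflement.Tower

variable {R K : Type u} [CommRing R] [Field K] (ρ : R →+* K)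
variable {Λ : Type u} [LinearOrder Λ] (v : Λ → K)

/-- evaluation of polynomials in the variables of `D` -/
noncomputable def ev (D : Set Λ) : MvPolynomial D R →+* K := eval₂Hom ρ (fun b => v b.1)

/-- inclusion of variables -/
noncomputable def inc {E D : Set Λ} (h : E ⊆ D) : MvPolynomial E R →+* MvPolynomial D R :=
  (rename (Set.inclusion h)).toRingHom

omit [LinearOrder Λ] in
lemma ev_comp_inc {E D : Set Λ} (h : E ⊆ D) : (ev ρ v D).comp (inc h) = ev ρ v E :=
  MvPolynomial.ringHom_ext (fun r => by simp [ev, inc]) (fun b => by simp [ev, inc])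

omit [LinearOrder Λ] in
lemma inc_comp_inc {E F D : Set Λ} (h : E ⊆ F) (h' : F ⊆ D) :
    (inc (R := R) h').comp (inc h) = inc (h.trans h') :=
  MvPolynomial.ringHom_ext (fun r => by simp [inc]) (fun b => by simp [inc])

/-- `v a` satisfies a nontrivial relation over the preceding ones -/
def Alg (a : Λ) : Prop :=
  ∃ Q : Polynomial (MvPolynomial (Set.Iio a) R),
    Q.map (ev ρ v (Set.Iio a)) ≠ 0 ∧ Q.eval₂ (ev ρ v (Set.Iio a)) (v a) = 0

open Classical in
/-- the chosen relation -/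
noncomputable def g (a : Λ) : Polynomial (MvPolynomial (Set.Iio a) R) :=
  if h : Alg ρ v a then (exists_minDeg (ev ρ v (Set.Iio a)) (v a) h).choose else 0

lemma g_spec {a : Λ} (h : Alg ρ v a) :
    ev ρ v (Set.Iio a) (g ρ v a).leadingCoeff ≠ 0 ∧ 0 < (g ρ v a).natDegree ∧
      MinDeg (ev ρ v (Set.Iio a)) (v a) (g ρ v a) := by
  have := (exists_minDeg (ev ρ v (Set.Iio a)) (v a) h).choose_spec
  rw [g, dif_pos h]
  exact ⟨this.1, this.2.1, this.2.2.2⟩

lemma g_kills (a : Λ) : (g ρ v a).eval₂ (ev ρ v (Set.Iio a)) (v a) = 0 := by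
  unfold g
  split_ifs with h
  · exact (exists_minDeg (ev ρ v (Set.Iio a)) (v a) h).choose_spec.2.2.1
  · simp

/-- the relation of `a` in the variables of `D` -/
noncomputable def relPoly {D : Set Λ} (a : Λ) (h : Set.Iic a ⊆ D) : MvPolynomial D R :=
  (g ρ v a).eval₂ (inc (Set.Iio_subset_Iic_self.trans h)) (X ⟨a, h (Set.self_mem_Iic)⟩)

/-- all relations in the variables of `D` -/
def relSet (D : Set Λ) : Set (MvPolynomial D R) := {p | ∃ (a : Λ) (h : Set.Iic a ⊆ D), relPoly ρ v a h = p}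

lemma ev_relPoly {D : Set Λ} (a : Λ) (h : Set.Iic a ⊆ D) : ev ρ v D (relPoly ρ v a h) = 0 := by
  rw [relPoly, Polynomial.hom_eval₂, ev_comp_inc]
  simpa [ev] using g_kills ρ v a

lemma inc_relPoly {E D : Set Λ} (hED : E ⊆ D) (a : Λ) (h : Set.Iic a ⊆ E) :
    inc hED (relPoly ρ v a h) = relPoly ρ v a (h.trans hED) := by
  rw [relPoly, relPoly, Polynomial.hom_eval₂, inc_comp_inc]
  congr 1
  simp [inc]

/-- polynomials modulo the relations -/
abbrev Quo (D : Set Λ) : Type u := MvPolynomial D R ⧸ Ideal.span (relSet ρ v D)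

/-- evaluation on the quotient -/
noncomputable def evQ (D : Set Λ) : Quo ρ v D →+* K :=
  Ideal.Quotient.lift _ (ev ρ v D) fun p hp => by
    have : Ideal.span (relSet ρ v D) ≤ RingHom.ker (ev ρ v D) := by
      rw [Ideal.span_le]
      rintro _ ⟨a, h, rfl⟩
      exact ev_relPoly ρ v a h
    exact this hp

instance isPrime_ker (D : Set Λ) : (RingHom.ker (evQ ρ v D)).IsPrime := RingHom.ker_isPrime _

/-- the stage attached to `D` -/
def St (D : Set Λ) : Type u := Localization.AtPrime (RingHom.ker (evQ ρ v D))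

noncomputable instance commRingSt (D : Set Λ) : CommRing (St ρ v D) :=
  inferInstanceAs (CommRing (Localization.AtPrime (RingHom.ker (evQ ρ v D))))

noncomputable instance algebraSt (D : Set Λ) : Algebra (Quo ρ v D) (St ρ v D) :=
  inferInstanceAs (Algebra (Quo ρ v D) (Localization.AtPrime (RingHom.ker (evQ ρ v D))))

instance isLocalizationSt (D : Set Λ) : IsLocalization.AtPrime (St ρ v D) (RingHom.ker (evQ ρ v D)) :=
  inferInstanceAs (IsLocalization.AtPrime (Localization.AtPrime (RingHom.ker (evQ ρ v D))) (RingHom.ker (evQ ρ v D)))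

instance isLocalRingSt (D : Set Λ) : IsLocalRing (St ρ v D) :=
  IsLocalization.AtPrime.isLocalRing (St ρ v D) (RingHom.ker (evQ ρ v D))

/-- the canonical map to a stage -/
noncomputable def toS (D : Set Λ) : MvPolynomial D R →+* St ρ v D :=
  (algebraMap (Quo ρ v D) (St ρ v D)).comp (Ideal.Quotient.mk _)

/-- the structure map of a stage -/
noncomputable def ρS (D : Set Λ) : R →+* St ρ v D := (toS ρ v D).comp C

/-- the distinguished elements of a stage -/
noncomputable def xS (D : Set Λ) (b : D) : St ρ v D := toS ρ v D (X b)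

lemma relPoly_mem {D : Set Λ} (a : Λ) (h : Set.Iic a ⊆ D) : relPoly ρ v a h ∈ Ideal.span (relSet ρ v D) :=
  Ideal.subset_span ⟨a, h, rfl⟩

lemma toS_relPoly {D : Set Λ} (a : Λ) (h : Set.Iic a ⊆ D) : toS ρ v D (relPoly ρ v a h) = 0 := by
  rw [toS, RingHom.comp_apply, Ideal.Quotient.eq_zero_iff_mem.mpr (relPoly_mem ρ v a h), map_zero]

/-- evaluation on a stage -/
noncomputable def evS (D : Set Λ) : St ρ v D →+* K :=
  IsLocalization.lift (M := (RingHom.ker (evQ ρ v D)).primeCompl) (g := evQ ρ v D)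
    fun y => IsUnit.mk0 _ y.2

lemma evS_toS (D : Set Λ) (p : MvPolynomial D R) : evS ρ v D (toS ρ v D p) = ev ρ v D p := by
  rw [evS, toS, RingHom.comp_apply, IsLocalization.lift_eq]
  rfl

lemma evS_ρS (D : Set Λ) : (evS ρ v D).comp (ρS ρ v D) = ρ :=
  RingHom.ext fun r => (evS_toS ρ v D (C r)).trans (by simp [ev])

lemma evS_xS (D : Set Λ) (b : D) : evS ρ v D (xS ρ v D b) = v b.1 :=
  (evS_toS ρ v D (X b)).trans (by simp [ev])

instance isLocalHom_evS (D : Set Λ) : IsLocalHom (evS ρ v D) := ⟨fun z hz => by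
  obtain ⟨q, s, rfl⟩ := IsLocalization.exists_mk'_eq (RingHom.ker (evQ ρ v D)).primeCompl z
  rw [IsLocalization.AtPrime.isUnit_mk'_iff _ (RingHom.ker (evQ ρ v D))]
  intro hq
  refine hz.ne_zero ?_
  rw [evS, IsLocalization.lift_mk', RingHom.mem_ker.mp hq, zero_mul]⟩

lemma exists_numerator {D : Set Λ} (z : St ρ v D) :
    ∃ p s : MvPolynomial D R, ev ρ v D s ≠ 0 ∧ z * toS ρ v D s = toS ρ v D p := by
  obtain ⟨q, s, rfl⟩ := IsLocalization.exists_mk'_eq (RingHom.ker (evQ ρ v D)).primeCompl z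
  obtain ⟨p, rfl⟩ := Ideal.Quotient.mk_surjective q
  obtain ⟨s, hs⟩ := s
  obtain ⟨s', rfl⟩ := Ideal.Quotient.mk_surjective s
  exact ⟨p, s', hs, IsLocalization.mk'_spec _ _ _⟩

section Lift

variable {D : Set Λ} {T : Type u} [CommRing T] (σ : T →+* K) [IsLocalHom σ] (j : R →+* T) (t : D → T)

/-- maps out of a stage -/
noncomputable def liftS (hj : σ.comp j = ρ) (ht : ∀ b, σ (t b) = v b.1)
    (hrel : ∀ (a : Λ) (h : Set.Iic a ⊆ D), eval₂Hom j t (relPoly ρ v a h) = 0) : St ρ v D →+* T :=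
  IsLocalization.lift (M := (RingHom.ker (evQ ρ v D)).primeCompl)
    (g := Ideal.Quotient.lift _ (eval₂Hom j t) fun p hp => by
      have : Ideal.span (relSet ρ v D) ≤ RingHom.ker (eval₂Hom j t) := by
        rw [Ideal.span_le]
        rintro _ ⟨a, h, rfl⟩
        exact hrel a h
      exact this hp)
    fun y => by
      obtain ⟨y, hy⟩ := y
      obtain ⟨y, rfl⟩ := Ideal.Quotient.mk_surjective y
      refine isUnit_of_map_unit σ _ ?_
      have : σ.comp (eval₂Hom j t) = ev ρ v D :=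
        MvPolynomial.ringHom_ext (fun r => by simp [ev, ← hj]) (fun b => by simp [ev, ht])
      rw [isUnit_iff_ne_zero]
      show σ (eval₂Hom j t y) ≠ 0
      rw [← RingHom.comp_apply, this]
      exact hy

variable (hj : σ.comp j = ρ) (ht : ∀ b, σ (t b) = v b.1)
  (hrel : ∀ (a : Λ) (h : Set.Iic a ⊆ D), eval₂Hom j t (relPoly ρ v a h) = 0)

lemma liftS_toS (p : MvPolynomial D R) : liftS ρ v σ j t hj ht hrel (toS ρ v D p) = eval₂Hom j t p := by
  rw [liftS, toS, RingHom.comp_apply, IsLocalization.lift_eq]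
  rfl

lemma liftS_ρS : (liftS ρ v σ j t hj ht hrel).comp (ρS ρ v D) = j :=
  RingHom.ext fun r => (liftS_toS ρ v σ j t hj ht hrel (C r)).trans (by simp)

lemma liftS_xS (b : D) : liftS ρ v σ j t hj ht hrel (xS ρ v D b) = t b :=
  (liftS_toS ρ v σ j t hj ht hrel (X b)).trans (by simp)

end Lift

lemma extS {D : Set Λ} {T : Type u} [CommRing T] {φ ψ : St ρ v D →+* T}
    (h₁ : φ.comp (ρS ρ v D) = ψ.comp (ρS ρ v D)) (h₂ : ∀ b, φ (xS ρ v D b) = ψ (xS ρ v D b)) : φ = ψ :=
  IsLocalization.ringHom_ext (RingHom.ker (evQ ρ v D)).primeCompl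
    (Ideal.Quotient.ringHom_ext (MvPolynomial.ringHom_ext (fun r => RingHom.congr_fun h₁ r) h₂))

lemma eval₂Hom_inc {E D : Set Λ} (h : E ⊆ D) :
    eval₂Hom (ρS ρ v D) (fun b : E => xS ρ v D ⟨b.1, h b.2⟩) = (toS ρ v D).comp (inc h) :=
  MvPolynomial.ringHom_ext (fun r => by simp [inc, ρS]) (fun b => by simp [inc, xS])

/-- transition maps -/
noncomputable def mapS {E D : Set Λ} (h : E ⊆ D) : St ρ v E →+* St ρ v D :=
  liftS ρ v (evS ρ v D) (ρS ρ v D) (fun b => xS ρ v D ⟨b.1, h b.2⟩) (evS_ρS ρ v D)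
    (fun b => evS_xS ρ v D _) fun a ha => by
      rw [eval₂Hom_inc, RingHom.comp_apply, inc_relPoly, toS_relPoly]

lemma mapS_ρS {E D : Set Λ} (h : E ⊆ D) : (mapS ρ v h).comp (ρS ρ v E) = ρS ρ v D := liftS_ρS ..

lemma mapS_xS {E D : Set Λ} (h : E ⊆ D) (b : E) : mapS ρ v h (xS ρ v E b) = xS ρ v D ⟨b.1, h b.2⟩ :=
  liftS_xS ..

lemma mapS_toS {E D : Set Λ} (h : E ⊆ D) (p : MvPolynomial E R) :
    mapS ρ v h (toS ρ v E p) = toS ρ v D (inc h p) := by
  rw [mapS, liftS_toS]
  exact RingHom.congr_fun (eval₂Hom_inc ρ v h) p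

lemma mapS_comp {E F D : Set Λ} (h : E ⊆ F) (h' : F ⊆ D) :
    (mapS ρ v h').comp (mapS ρ v h) = mapS ρ v (h.trans h') :=
  extS ρ v (by rw [RingHom.comp_assoc, mapS_ρS, mapS_ρS, mapS_ρS])
    fun b => by rw [RingHom.comp_apply, mapS_xS, mapS_xS, mapS_xS]

lemma mapS_self (D : Set Λ) : mapS ρ v (subset_refl D) = RingHom.id _ :=
  extS ρ v (by rw [mapS_ρS, RingHom.id_comp]) fun b => mapS_xS ..

lemma evS_mapS {E D : Set Λ} (h : E ⊆ D) : (evS ρ v D).comp (mapS ρ v h) = evS ρ v E :=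
  extS ρ v (by rw [RingHom.comp_assoc, mapS_ρS, evS_ρS, evS_ρS])
    fun b => by rw [RingHom.comp_apply, mapS_xS, evS_xS, evS_xS]

lemma isLocalHom_mapS {E D : Set Λ} (h : E ⊆ D) : IsLocalHom (mapS ρ v h) := ⟨fun z hz => by
  have h1 := hz.map (evS ρ v D)
  rw [← RingHom.comp_apply, evS_mapS] at h1
  exact (isLocalHom_evS ρ v E).map_nonunit z h1⟩

section Invariant

variable [IsLocalRing R]

/-- the properties proved by transfinite induction -/
structure Inv (D : Set Λ) : Prop where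
  maximal : (IsLocalRing.maximalIdeal R).map (ρS ρ v D) = IsLocalRing.maximalIdeal (St ρ v D)
  flatBase : (ρS ρ v D).Flat
  flat : ∀ E : Set Λ, IsLowerSet E → ∀ h : E ⊆ D, (mapS ρ v h).Flat
  noetherian : IsNoetherianRing R → IsNoetherianRing (St ρ v D)

lemma inv_empty [IsLocalHom ρ] : Inv ρ v (∅ : Set Λ) := by
  let back : St ρ v (∅ : Set Λ) →+* R :=
    liftS ρ v ρ (RingHom.id R) (fun b => b.2.elim) (RingHom.comp_id ρ) (fun b => b.2.elim)
      fun a h => ((h Set.self_mem_Iic : a ∈ (∅ : Set Λ))).elim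
  have h1 : back.comp (ρS ρ v ∅) = RingHom.id R := liftS_ρS ..
  have h2 : (ρS ρ v ∅).comp back = RingHom.id _ :=
    extS ρ v (by rw [RingHom.comp_assoc, h1, RingHom.comp_id, RingHom.id_comp]) fun b => b.2.elim
  have hb : Function.Bijective (ρS ρ v (∅ : Set Λ)) :=
    ⟨fun x y h => (RingHom.congr_fun h1 x).symm.trans ((congrArg back h).trans (RingHom.congr_fun h1 y)),
      fun z => ⟨back z, RingHom.congr_fun h2 z⟩⟩
  refine ⟨?_, RingHom.Flat.of_bijective hb, fun E _ h => ?_, fun _ => ?_⟩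
  · exact IsLocalRing.eq_maximalIdeal (Ideal.IsMaximal.map_bijective (ρS ρ v ∅) hb (IsLocalRing.maximalIdeal.isMaximal R))
  · obtain rfl : E = ∅ := Set.subset_empty_iff.mp h
    rw [show mapS ρ v h = RingHom.id _ from mapS_self ρ v ∅]
    exact RingHom.Flat.id _
  · exact isNoetherianRing_of_surjective _ _ _ hb.2

omit [IsLocalRing R] in
lemma kills_map_eq_zero {E : Set Λ} {c : K} (d : ℕ)
    (hd : ∀ Q : Polynomial (MvPolynomial E R), Q.degree < d → Q.eval₂ (ev ρ v E) c = 0 → Q.map (ev ρ v E) = 0)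
    (Q : Polynomial (St ρ v E)) (hQ : Q.degree < d) (hQc : Q.eval₂ (evS ρ v E) c = 0) :
    Q.map (evS ρ v E) = 0 := by
  classical
  choose p s hs hps using fun i : ℕ => exists_numerator ρ v (Q.coeff i)
  let s' := ∏ i ∈ Finset.range d, s i
  let Q' : Polynomial (MvPolynomial E R) :=
    ∑ i ∈ Finset.range d, Polynomial.C (p i * ∏ l ∈ (Finset.range d).erase i, s l) * Polynomial.X ^ i
  have hdeg : Q'.degree < d := by
    refine lt_of_le_of_lt (Polynomial.degree_sum_le _ _) ?_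
    refine (Finset.sup_lt_iff (WithBot.bot_lt_coe d)).mpr fun i hi => ?_
    exact lt_of_le_of_lt (Polynomial.degree_C_mul_X_pow_le _ _) (WithBot.coe_lt_coe.mpr (Finset.mem_range.mp hi))
  have hmap : Q'.map (toS ρ v E) = Polynomial.C (toS ρ v E s') * Q := by
    ext i
    simp only [Q', Polynomial.coeff_map, Polynomial.finsetSum_coeff, Polynomial.coeff_C_mul_X_pow,
      Finset.sum_ite_eq, Finset.mem_range]
    rw [Polynomial.coeff_C_mul]
    split_ifs with hi
    · rw [map_mul, ← hps i]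
      simp only [s', ← Finset.mul_prod_erase _ _ (Finset.mem_range.mpr hi), map_mul]
      ring
    · rw [map_zero, Polynomial.coeff_eq_zero_of_degree_lt
        (lt_of_lt_of_le hQ (WithBot.coe_le_coe.mpr (not_lt.mp hi))), mul_zero]
  have hcomp : (evS ρ v E).comp (toS ρ v E) = ev ρ v E := RingHom.ext (evS_toS ρ v E)
  have hkill : Q'.eval₂ (ev ρ v E) c = 0 := by
    rw [← hcomp, ← Polynomial.eval₂_map, hmap, Polynomial.eval₂_mul, hQc, mul_zero]
  have h0 := hd Q' hdeg hkill
  rw [← hcomp, ← Polynomial.map_map, hmap, Polynomial.map_mul, Polynomial.map_C, evS_toS, mul_eq_zero,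
    Polynomial.C_eq_zero] at h0
  exact h0.resolve_left (by rw [map_prod]; exact Finset.prod_ne_zero_iff.mpr fun i _ => hs i)

/-- a model of the stage at `Iic a` over the stage at `Iio a` gives the invariant -/
lemma inv_of_model {a : Λ} (hinv : Inv ρ v (Set.Iio a)) {T : Type u} [CommRing T] [IsLocalRing T]
    (σT : T →+* K) [IsLocalHom σT] (jE : St ρ v (Set.Iio a) →+* T) (r : T)
    (hσ : σT.comp jE = evS ρ v (Set.Iio a)) (hσr : σT r = v a)
    (hG : ((g ρ v a).map (toS ρ v (Set.Iio a))).eval₂ jE r = 0)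
    (Ψ : T →+* St ρ v (Set.Iic a)) (hΨ : Ψ.comp jE = mapS ρ v Set.Iio_subset_Iic_self)
    (hΨr : Ψ r = xS ρ v (Set.Iic a) ⟨a, Set.self_mem_Iic⟩)
    (hT : ∀ {φ ψ : T →+* T}, φ.comp jE = ψ.comp jE → φ r = ψ r → φ = ψ)
    (hflat : jE.Flat) (hmax : (IsLocalRing.maximalIdeal (St ρ v (Set.Iio a))).map jE = IsLocalRing.maximalIdeal T)
    (hnoeth : IsNoetherianRing (St ρ v (Set.Iio a)) → IsNoetherianRing T) : Inv ρ v (Set.Iic a) := by
  classical
  let t : Set.Iic a → T := fun b =>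
    if h : b.1 < a then jE (xS ρ v (Set.Iio a) ⟨b.1, h⟩) else r
  have ht : ∀ b, σT (t b) = v b.1 := fun b => by
    simp only [t]
    split_ifs with h
    · rw [← RingHom.comp_apply, hσ, evS_xS]
    · rw [hσr, le_antisymm b.2 (not_lt.mp h)]
  have hcomp : (eval₂Hom (jE.comp (ρS ρ v (Set.Iio a))) t).comp (inc Set.Iio_subset_Iic_self) =
      jE.comp (toS ρ v (Set.Iio a)) := by
    refine MvPolynomial.ringHom_ext (fun x => by simp [inc, ρS]) fun b => ?_
    simp only [inc, RingHom.comp_apply, AlgHom.toRingHom_eq_coe, RingHom.coe_coe, rename_X, eval₂Hom_X', t]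
    rw [dif_pos (show (Set.inclusion Set.Iio_subset_Iic_self b).1 < a from b.2)]
    rfl
  let Φ : St ρ v (Set.Iic a) →+* T :=
    liftS ρ v σT (jE.comp (ρS ρ v (Set.Iio a))) t (by rw [← RingHom.comp_assoc, hσ, evS_ρS]) ht fun a' ha' => by
      rcases lt_or_eq_of_le (show a' ≤ a from ha' Set.self_mem_Iic) with hlt | rfl
      · have hsub : Set.Iic a' ⊆ Set.Iio a := fun c hc => lt_of_le_of_lt hc hlt
        rw [show relPoly ρ v a' ha' = inc Set.Iio_subset_Iic_self (relPoly ρ v a' hsub) from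
          (inc_relPoly ρ v _ a' hsub).symm, ← RingHom.comp_apply, hcomp, RingHom.comp_apply,
          toS_relPoly, map_zero]
      · rw [relPoly, Polynomial.hom_eval₂, hcomp, ← Polynomial.eval₂_map]
        convert hG using 2
        simp [t]
  have hΦ : Φ.comp (mapS ρ v Set.Iio_subset_Iic_self) = jE := by
    refine extS ρ v (by rw [RingHom.comp_assoc, mapS_ρS]; exact liftS_ρS ..) fun b => ?_
    rw [RingHom.comp_apply, mapS_xS]
    refine (liftS_xS ..).trans ?_
    simp only [t]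
    rw [dif_pos (show b.1 < a from b.2)]
  have hΦa : Φ (xS ρ v (Set.Iic a) ⟨a, Set.self_mem_Iic⟩) = r := by
    refine (liftS_xS ..).trans ?_
    simp [t]
  have h1 : Ψ.comp Φ = RingHom.id _ := by
    refine extS ρ v ?_ fun b => ?_
    · rw [RingHom.id_comp, ← mapS_ρS ρ v Set.Iio_subset_Iic_self, ← RingHom.comp_assoc,
        show (Ψ.comp Φ).comp (mapS ρ v Set.Iio_subset_Iic_self) =
          Ψ.comp (Φ.comp (mapS ρ v Set.Iio_subset_Iic_self)) from rfl, hΦ, hΨ]
    · rcases lt_or_eq_of_le (show b.1 ≤ a from b.2) with hlt | heq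
      · have := mapS_xS ρ v Set.Iio_subset_Iic_self ⟨b.1, hlt⟩
        rw [RingHom.id_apply, ← this, ← RingHom.comp_apply, RingHom.comp_assoc, hΦ, hΨ]
      · obtain rfl : b = ⟨a, Set.self_mem_Iic⟩ := Subtype.ext heq
        rw [RingHom.id_apply, RingHom.comp_apply, hΦa, hΨr]
  have h2 : Φ.comp Ψ = RingHom.id _ := hT
    (by rw [RingHom.comp_assoc, hΨ, hΦ, RingHom.id_comp])
    (by rw [RingHom.comp_apply, hΨr, hΦa, RingHom.id_apply])
  have hb : Function.Bijective Ψ :=
    ⟨fun x y h => (RingHom.congr_fun h2 x).symm.trans ((congrArg Φ h).trans (RingHom.congr_fun h2 y)),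
      fun z => ⟨Φ z, RingHom.congr_fun h1 z⟩⟩
  have hf : (mapS ρ v (Set.Iio_subset_Iic_self (a := a))).Flat := hΨ ▸ hflat.comp (RingHom.Flat.of_bijective hb)
  refine ⟨?_, ?_, fun E hE h => ?_, fun hR => ?_⟩
  · rw [← mapS_ρS ρ v Set.Iio_subset_Iic_self, ← Ideal.map_map, hinv.maximal, ← hΨ, ← Ideal.map_map, hmax]
    exact IsLocalRing.eq_maximalIdeal (Ideal.IsMaximal.map_bijective Ψ hb (IsLocalRing.maximalIdeal.isMaximal T))
  · rw [← mapS_ρS ρ v Set.Iio_subset_Iic_self]
    exact hinv.flatBase.comp hf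
  · by_cases ha : a ∈ E
    · obtain rfl : E = Set.Iic a := subset_antisymm h fun c hc => hE hc ha
      rw [show mapS ρ v h = RingHom.id _ from mapS_self ρ v _]
      exact RingHom.Flat.id _
    · have h' : E ⊆ Set.Iio a := fun c hc => lt_of_le_of_ne (h hc) fun hca => ha (hca ▸ hc)
      rw [show mapS ρ v h = _ from (mapS_comp ρ v h' Set.Iio_subset_Iic_self).symm]
      exact (hinv.flat E hE h').comp hf
  · have := hnoeth (hinv.noetherian hR)
    exact isNoetherianRing_of_surjective _ _ Ψ hb.2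

lemma inv_Iic {a : Λ} (hinv : Inv ρ v (Set.Iio a)) : Inv ρ v (Set.Iic a) := by
  classical
  have hloc := ker_eq_maximalIdeal (σ := evS ρ v (Set.Iio a))
  set σE := evS ρ v (Set.Iio a) with hσE
  set G := (g ρ v a).map (toS ρ v (Set.Iio a)) with hG
  have hGa : G.eval₂ σE (v a) = 0 := by
    rw [hG, Polynomial.eval₂_map, show σE.comp (toS ρ v _) = ev ρ v _ from RingHom.ext (evS_toS ρ v _)]
    exact g_kills ρ v a
  have hrel : G.eval₂ (mapS ρ v Set.Iio_subset_Iic_self) (xS ρ v (Set.Iic a) ⟨a, Set.self_mem_Iic⟩) = 0 := by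
    rw [hG, Polynomial.eval₂_map, show (mapS ρ v Set.Iio_subset_Iic_self).comp (toS ρ v _) =
      (toS ρ v _).comp (inc Set.Iio_subset_Iic_self) from RingHom.ext (mapS_toS ρ v _)]
    exact (Polynomial.hom_eval₂ _ _ _ _).symm.trans (toS_relPoly ρ v a subset_rfl)
  by_cases halg : Alg ρ v a
  · obtain ⟨hlead, hdeg, hmin⟩ := g_spec ρ v halg
    have hu : IsUnit (toS ρ v (Set.Iio a) (g ρ v a).leadingCoeff) :=
      (isLocalHom_evS ρ v _).map_nonunit _ (IsUnit.mk0 _ (by rw [evS_toS]; exact hlead))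
    have hdG : G.natDegree = (g ρ v a).natDegree := by
      rw [hG, Polynomial.natDegree_map_of_leadingCoeff_ne_zero _ hu.ne_zero]
    let P := Polynomial.C (↑hu.unit⁻¹ : St ρ v (Set.Iio a)) * G
    have hPm : P.Monic := Polynomial.monic_C_mul_of_mul_leadingCoeff_eq_one (by
      rw [hG, Polynomial.leadingCoeff_map_of_leadingCoeff_ne_zero _ hu.ne_zero]
      exact hu.val_inv_mul)
    have hPa : P.eval₂ σE (v a) = 0 := by simp [P, hGa]
    have hPdeg : P.degree = ((g ρ v a).natDegree : WithBot ℕ) := by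
      rw [Polynomial.degree_eq_natDegree hPm.ne_zero, ← hdG]
      simp only [P]
      rw [Polynomial.natDegree_C_mul_of_mul_ne_zero]
      rw [hG, Polynomial.leadingCoeff_map_of_leadingCoeff_ne_zero _ hu.ne_zero, hu.val_inv_mul]
      exact one_ne_zero
    have hPmin : MinDeg σE (v a) P := fun Q hQ hQa =>
      kills_map_eq_zero ρ v (g ρ v a).natDegree (fun Q' hQ' => hmin Q' (by
        rwa [Polynomial.degree_eq_natDegree (p := g ρ v a) (fun h => by rw [h] at hdeg; simp at hdeg)])) Q (hPdeg ▸ hQ) hQa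
    have := isLocalRing_adjoin hPm hPa hPmin
    have := isLocalHom_lift hPm hPa hPmin
    refine inv_of_model ρ v hinv (AdjoinRoot.lift σE (v a) hPa) (AdjoinRoot.of P) (AdjoinRoot.root P)
      (AdjoinRoot.lift_comp_of hPa) (AdjoinRoot.lift_root hPa) ?_
      (AdjoinRoot.lift (mapS ρ v Set.Iio_subset_Iic_self) (xS ρ v (Set.Iic a) ⟨a, Set.self_mem_Iic⟩)
        (by simp only [P, Polynomial.eval₂_mul, hrel, mul_zero]))
      (AdjoinRoot.lift_comp_of _) (AdjoinRoot.lift_root _) (fun h h' => AdjoinRoot.ringHom_ext h h')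
      (flat_adjoin hPm) (maximalIdeal_adjoin hPm hPa hPmin) fun hN => inferInstance
    have : G = Polynomial.C (toS ρ v (Set.Iio a) (g ρ v a).leadingCoeff) * P := by
      simp only [P]
      rw [← mul_assoc, ← Polynomial.C_mul, hu.mul_val_inv, Polynomial.C_1, one_mul]
    rw [← hG, this, Polynomial.eval₂_mul, AdjoinRoot.eval₂_root, mul_zero]
  · have hG0 : G = 0 := by rw [hG, g, dif_neg halg, Polynomial.map_zero]
    let τ : Polynomial (St ρ v (Set.Iio a)) →+* K := Polynomial.eval₂RingHom σE (v a)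
    have hker : RingHom.ker τ = (IsLocalRing.maximalIdeal (St ρ v (Set.Iio a))).map Polynomial.C := by
      ext Q
      rw [Ideal.mem_map_C_iff]
      simp only [← hloc, RingHom.mem_ker]
      constructor
      · intro hQ n
        have h0 := kills_map_eq_zero ρ v (Q.natDegree + 1) (fun Q' _ hQ' => by
          by_contra hne; exact halg ⟨Q', hne, hQ'⟩) Q
          (lt_of_le_of_lt Polynomial.degree_le_natDegree (WithBot.coe_lt_coe.mpr (Nat.lt_succ_self _))) hQ
        have := congrArg (Polynomial.coeff · n) h0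
        simpa [Polynomial.coeff_map] using this
      · intro h
        show Q.eval₂ σE (v a) = 0
        rw [Polynomial.eval₂_eq_sum_range]
        exact Finset.sum_eq_zero fun i _ => by rw [h i, zero_mul]
    have : (RingHom.ker τ).IsPrime := RingHom.ker_isPrime _
    let T := Localization.AtPrime (RingHom.ker τ)
    let σT : T →+* K := IsLocalization.lift (M := (RingHom.ker τ).primeCompl) (g := τ) fun y => IsUnit.mk0 _ y.2
    have hσT : IsLocalHom σT := ⟨fun z hz => by
      obtain ⟨q, s, rfl⟩ := IsLocalization.exists_mk'_eq (RingHom.ker τ).primeCompl z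
      rw [IsLocalization.AtPrime.isUnit_mk'_iff _ (RingHom.ker τ)]
      intro hq
      refine hz.ne_zero ?_
      rw [IsLocalization.lift_mk', RingHom.mem_ker.mp hq, zero_mul]⟩
    let φ : Polynomial (St ρ v (Set.Iio a)) →+* St ρ v (Set.Iic a) :=
      Polynomial.eval₂RingHom (mapS ρ v Set.Iio_subset_Iic_self) (xS ρ v (Set.Iic a) ⟨a, Set.self_mem_Iic⟩)
    have hφ : (evS ρ v (Set.Iic a)).comp φ = τ := Polynomial.ringHom_ext
      (fun x => by simp [φ, τ, σE, ← evS_mapS ρ v (Set.Iio_subset_Iic_self (a := a))])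
      (by simp [φ, τ, evS_xS])
    refine inv_of_model ρ v hinv σT
      ((algebraMap (Polynomial (St ρ v (Set.Iio a))) T).comp Polynomial.C)
      (algebraMap _ T Polynomial.X) ?_ (by simp [σT, τ]) (by rw [← hG, hG0, Polynomial.eval₂_zero])
      (IsLocalization.lift (M := (RingHom.ker τ).primeCompl) (g := φ) fun y =>
        (isLocalHom_evS ρ v (Set.Iic a)).map_nonunit _ (IsUnit.mk0 _ (by
          rw [← RingHom.comp_apply, hφ]; exact y.2)))
      (RingHom.ext fun x => by simp [φ]) (by simp [φ]) (fun h h' =>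
        IsLocalization.ringHom_ext (RingHom.ker τ).primeCompl
          (Polynomial.ringHom_ext (fun x => RingHom.congr_fun h x) h')) ?_ ?_
      (fun hN => IsLocalization.isNoetherianRing (RingHom.ker τ).primeCompl T inferInstance)
    · exact RingHom.ext fun x => by simp [σT, τ, σE]
    · refine RingHom.Flat.comp ?_ ?_
      · rw [← Polynomial.algebraMap_eq, RingHom.flat_algebraMap_iff]; infer_instance
      · rw [RingHom.flat_algebraMap_iff]
        exact IsLocalization.flat T (RingHom.ker τ).primeCompl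
    · rw [← Ideal.map_map, ← hker]
      exact IsLocalization.AtPrime.map_eq_maximalIdeal (RingHom.ker τ) T

section Limit

variable {D : Set Λ} (hD : IsLowerSet D) (hmax : ∀ b ∈ D, ∃ c ∈ D, b < c) (hne : D.Nonempty)
  (ih : ∀ b ∈ D, Inv ρ v (Set.Iio b))

/-- the stages below a member of `D` -/
abbrev sysG (D : Set Λ) (b : D) : Type u := St ρ v (Set.Iio b.1)

/-- the transition maps of these stages -/
noncomputable def sysf (D : Set Λ) (i j : D) (h : i ≤ j) : sysG ρ v D i →+* sysG ρ v D j :=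
  mapS ρ v (Set.Iio_subset_Iio (show i.1 ≤ j.1 from h))

instance sys_directed (D : Set Λ) : DirectedSystem (sysG ρ v D) fun i j h => sysf ρ v D i j h :=
  ⟨fun i x => RingHom.congr_fun (mapS_self ρ v _) x,
    fun k j i hij hjk x => RingHom.congr_fun (mapS_comp ρ v (Set.Iio_subset_Iio (show i.1 ≤ j.1 from hij))
      (Set.Iio_subset_Iio (show j.1 ≤ k.1 from hjk))) x⟩

/-- the colimit of the stages below members of `D` -/
abbrev sysL (D : Set Λ) : Type u := Ring.DirectLimit (sysG ρ v D) fun i j h => sysf ρ v D i j h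

/-- the maps into the colimit -/
noncomputable abbrev sysOf (D : Set Λ) (c : D) : sysG ρ v D c →+* sysL ρ v D :=
  Ring.DirectLimit.of (sysG ρ v D) (fun i j h => sysf ρ v D i j h) c

omit [IsLocalRing R] in
lemma sysOf_xS_eq {D : Set Λ} {c c' : D} (b : Λ) (h : b < c.1) (h' : b < c'.1) :
    sysOf ρ v D c (xS ρ v _ ⟨b, h⟩) = sysOf ρ v D c' (xS ρ v _ ⟨b, h'⟩) := by
  obtain ⟨k, hk1, hk2⟩ := exists_ge_ge c c'
  rw [sysOf, sysOf, ← of_map (sysG ρ v D) (sysf ρ v D) c k hk1, ← of_map (sysG ρ v D) (sysf ρ v D) c' k hk2]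
  refine congrArg _ ?_
  rw [sysf, sysf, mapS_xS, mapS_xS]

omit [IsLocalRing R] in
lemma sysOf_ρS_eq {D : Set Λ} (c c' : D) :
    (sysOf ρ v D c).comp (ρS ρ v _) = (sysOf ρ v D c').comp (ρS ρ v _) := by
  obtain ⟨k, hk1, hk2⟩ := exists_ge_ge c c'
  refine RingHom.ext fun x => ?_
  rw [RingHom.comp_apply, RingHom.comp_apply, sysOf, sysOf, ← of_map (sysG ρ v D) (sysf ρ v D) c k hk1,
    ← of_map (sysG ρ v D) (sysf ρ v D) c' k hk2]
  refine congrArg _ ?_
  rw [sysf, sysf, ← RingHom.comp_apply (mapS ρ v _), mapS_ρS, ← RingHom.comp_apply (mapS ρ v _), mapS_ρS]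

lemma Iio_subset_of_lower (hD : IsLowerSet D) (c : D) : Set.Iio c.1 ⊆ D := fun _ hx => hD (le_of_lt hx) c.2

omit [IsLocalRing R] in
/-- the stage at `D` is the colimit of the stages below its members -/
lemma exists_bijective_sys (hD : IsLowerSet D) (hmax : ∀ b ∈ D, ∃ c ∈ D, b < c) [Nonempty D] :
    ∃ bwd : sysL ρ v D →+* St ρ v D, Function.Bijective bwd ∧
      ∀ c : D, bwd.comp (sysOf ρ v D c) = mapS ρ v (Iio_subset_of_lower hD c) := by
  classical
  obtain ⟨σ, hσof⟩ : ∃ σ : sysL ρ v D →+* K, ∀ c, σ.comp (sysOf ρ v D c) = evS ρ v _ :=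
    ⟨Ring.DirectLimit.lift (sysG ρ v D) (fun i j h => sysf ρ v D i j h) K (fun b => evS ρ v (Set.Iio b.1))
      (fun i j h x => by rw [sysf, ← RingHom.comp_apply, evS_mapS]),
      fun c => RingHom.ext fun x => by rw [RingHom.comp_apply, sysOf, Ring.DirectLimit.lift_of]⟩
  have hσ : IsLocalHom σ := ⟨fun z hz => by
    obtain ⟨i, x, rfl⟩ := Ring.DirectLimit.exists_of z
    rw [← RingHom.comp_apply, hσof] at hz
    exact ((isLocalHom_evS ρ v _).map_nonunit x hz).map _⟩
  let i0 : D := Classical.arbitrary _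
  choose up hup hlt using fun b : D => hmax b.1 b.2
  let t : D → sysL ρ v D := fun b => sysOf ρ v D ⟨up b, hup b⟩ (xS ρ v _ ⟨b.1, hlt b⟩)
  have hev : ∀ c : D, (eval₂Hom ((sysOf ρ v D i0).comp (ρS ρ v _)) t).comp (inc (Iio_subset_of_lower hD c)) =
      (sysOf ρ v D c).comp (toS ρ v _) := fun c =>
    MvPolynomial.ringHom_ext
      (fun x => by
        simp only [inc, RingHom.comp_apply, AlgHom.toRingHom_eq_coe, RingHom.coe_coe, rename_C, eval₂Hom_C]
        exact RingHom.congr_fun (sysOf_ρS_eq ρ v i0 c) x)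
      (fun b => by
        simp only [inc, RingHom.comp_apply, AlgHom.toRingHom_eq_coe, RingHom.coe_coe, rename_X, eval₂Hom_X']
        exact sysOf_xS_eq ρ v b.1 (hlt (Set.inclusion (Iio_subset_of_lower hD c) b)) b.2)
  have hj : σ.comp ((sysOf ρ v D i0).comp (ρS ρ v _)) = ρ := by rw [← RingHom.comp_assoc, hσof, evS_ρS]
  have ht : ∀ b, σ (t b) = v b.1 := fun b =>
    (RingHom.congr_fun (hσof _) _).trans (evS_xS ρ v _ _)
  have hrel : ∀ (a : Λ) (ha : Set.Iic a ⊆ D),
      eval₂Hom ((sysOf ρ v D i0).comp (ρS ρ v _)) t (relPoly ρ v a ha) = 0 := by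
    intro a ha
    obtain ⟨c, hc, hac⟩ := hmax a (ha Set.self_mem_Iic)
    have hsub' : Set.Iic a ⊆ Set.Iio c := fun x hx => lt_of_le_of_lt hx hac
    rw [show relPoly ρ v a ha = inc (Iio_subset_of_lower hD ⟨c, hc⟩) (relPoly ρ v a hsub') from
      (inc_relPoly ρ v _ a hsub').symm, ← RingHom.comp_apply, hev, RingHom.comp_apply, toS_relPoly, map_zero]
  obtain ⟨fwd, hfρ, hfx⟩ : ∃ fwd : St ρ v D →+* sysL ρ v D,
      fwd.comp (ρS ρ v D) = (sysOf ρ v D i0).comp (ρS ρ v _) ∧ ∀ b, fwd (xS ρ v D b) = t b :=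
    ⟨liftS ρ v σ _ t hj ht hrel, liftS_ρS .., fun b => liftS_xS ..⟩
  obtain ⟨bwd, hbof⟩ : ∃ bwd : sysL ρ v D →+* St ρ v D,
      ∀ c : D, bwd.comp (sysOf ρ v D c) = mapS ρ v (Iio_subset_of_lower hD c) :=
    ⟨Ring.DirectLimit.lift (sysG ρ v D) (fun i j h => sysf ρ v D i j h) (St ρ v D) (fun c => mapS ρ v (Iio_subset_of_lower hD c))
      (fun i j h x => by rw [sysf, ← RingHom.comp_apply, mapS_comp]),
      fun c => RingHom.ext fun x => by rw [RingHom.comp_apply, sysOf, Ring.DirectLimit.lift_of]⟩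
  have h1 : bwd.comp fwd = RingHom.id _ := by
    refine extS ρ v ?_ fun b => ?_
    · rw [RingHom.comp_assoc, hfρ, RingHom.id_comp, ← RingHom.comp_assoc, hbof, mapS_ρS]
    · rw [RingHom.comp_apply, hfx, RingHom.id_apply]
      refine (RingHom.congr_fun (hbof _) _).trans ?_
      rw [mapS_xS]
  have hfof : ∀ c : D, fwd.comp (mapS ρ v (Iio_subset_of_lower hD c)) = sysOf ρ v D c := fun c => by
    refine extS ρ v ?_ fun b => ?_
    · rw [RingHom.comp_assoc, mapS_ρS, hfρ]
      exact sysOf_ρS_eq ρ v i0 c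
    · rw [RingHom.comp_apply, mapS_xS, hfx]
      exact sysOf_xS_eq ρ v b.1 (hlt ⟨b.1, Iio_subset_of_lower hD c b.2⟩) b.2
  have h2 : fwd.comp bwd = RingHom.id _ := Ring.DirectLimit.hom_ext _ fun c => by
    rw [RingHom.comp_assoc, hbof, hfof, RingHom.id_comp]
  exact ⟨bwd, ⟨fun x y h => (RingHom.congr_fun h2 x).symm.trans ((congrArg fwd h).trans (RingHom.congr_fun h2 y)),
    fun z => ⟨fwd z, RingHom.congr_fun h1 z⟩⟩, hbof⟩

include hD hmax hne ih in
lemma inv_limit : Inv ρ v D := by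
  have : Nonempty D := hne.to_subtype
  obtain ⟨bwd, hb, hbof⟩ := exists_bijective_sys ρ v hD hmax
  have hloc : ∀ i j (h : i ≤ j), IsLocalHom (sysf ρ v D i j h) := fun i j h => isLocalHom_mapS ρ v _
  have hflat : ∀ i j (h : i ≤ j), (sysf ρ v D i j h).Flat := fun i j h =>
    (ih j.1 j.2).flat _ (isLowerSet_Iio i.1) _
  have hmI : ∀ i j (h : i ≤ j), (IsLocalRing.maximalIdeal (sysG ρ v D i)).map (sysf ρ v D i j h) =
      IsLocalRing.maximalIdeal (sysG ρ v D j) := fun i j h => by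
    rw [← (ih i.1 i.2).maximal, Ideal.map_map, sysf, mapS_ρS]
    exact (ih j.1 j.2).maximal
  have : IsLocalRing (sysL ρ v D) := isLocalRing (sysG ρ v D) (sysf ρ v D) hloc
  let i0 : D := Classical.arbitrary _
  have hf : ∀ c : D, (mapS ρ v (Iio_subset_of_lower hD c)).Flat := fun c =>
    hbof c ▸ (flat_of (sysG ρ v D) (sysf ρ v D) hflat c).comp (RingHom.Flat.of_bijective hb)
  refine ⟨?_, ?_, fun E hE h => ?_, fun hR => ?_⟩
  · rw [← mapS_ρS ρ v (Iio_subset_of_lower hD i0), ← Ideal.map_map, (ih i0.1 i0.2).maximal, ← hbof i0,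
      ← Ideal.map_map, maximalIdeal_eq (sysG ρ v D) (sysf ρ v D) hloc hmI i0]
    exact IsLocalRing.eq_maximalIdeal (Ideal.IsMaximal.map_bijective bwd hb (IsLocalRing.maximalIdeal.isMaximal _))
  · rw [← mapS_ρS ρ v (Iio_subset_of_lower hD i0)]
    exact (ih i0.1 i0.2).flatBase.comp (hf i0)
  · by_cases hED : E = D
    · subst hED
      rw [show mapS ρ v h = RingHom.id _ from mapS_self ρ v _]
      exact RingHom.Flat.id _
    · obtain ⟨b, hbD, hbE⟩ := Set.exists_of_ssubset (h.ssubset_of_ne hED)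
      have h' : E ⊆ Set.Iio b := fun x hx => lt_of_not_ge fun hbx => hbE (hE hbx hx)
      rw [show mapS ρ v h = _ from (mapS_comp ρ v h' (Iio_subset_of_lower hD ⟨b, hbD⟩)).symm]
      exact ((ih b hbD).flat E hE h').comp (hf ⟨b, hbD⟩)
  · have : ∀ c : D, IsNoetherianRing (sysG ρ v D c) := fun c => (ih c.1 c.2).noetherian hR
    have : IsNoetherianRing (sysL ρ v D) := isNoetherianRing (sysG ρ v D) (sysf ρ v D) hloc hmI hflat
    exact isNoetherianRing_of_surjective _ _ bwd hb.2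

end Limit

variable [WellFoundedLT Λ] [IsLocalHom ρ]

omit [WellFoundedLT Λ] in
lemma inv_of_lower {D : Set Λ} (hD : IsLowerSet D) (ih : ∀ b ∈ D, Inv ρ v (Set.Iio b)) : Inv ρ v D := by
  rcases D.eq_empty_or_nonempty with rfl | hne
  · exact inv_empty ρ v
  by_cases hm : ∀ b ∈ D, ∃ c ∈ D, b < c
  · exact inv_limit ρ v hD hm hne ih
  · push Not at hm
    obtain ⟨a, ha, hle⟩ := hm
    obtain rfl : D = Set.Iic a := subset_antisymm (fun c hc => hle c hc) fun c hc => hD hc ha
    exact inv_Iic ρ v (ih a ha)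

lemma inv_Iio (a : Λ) : Inv ρ v (Set.Iio a) := by
  induction a using WellFoundedLT.induction with
  | _ a ih => exact inv_of_lower ρ v (isLowerSet_Iio a) fun b hb => ih b hb

/-- the invariant for all of `Λ` -/
theorem inv_univ : Inv ρ v (Set.univ : Set Λ) :=
  inv_of_lower ρ v isLowerSet_univ fun b _ => inv_Iio ρ v b

end Invariant

end Groth.L02.Gonflement.Tower
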